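import Cfsg.Agent.H414.Vasiliev
import Cfsg.Agent.H414.Spec
import Cfsg.Agent.H414.RelB
import Cfsg.Agent.H912.KnownSplit
import Cfsg.Agent.H357.Sp.Spec
import Cfsg.Agent.H546.Sp.Norm
import Cfsg.Agent.Mrg.Omega.TwoF.AltRk

/-!
# Rows for small degrees: the frame (helper396, TEAM SPEC-ALT)

* `frame` : the solvable radical `K`, the simple normal subgroup `S` of `G / K`;
* `top_of_alt` : `S` alternating;
-/

set_option autoImplicit false

namespace Cfsg.Agent.H396.SpA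

open Cfsg Subgroup Cfsg.Agent.H357.Sp Cfsg.Agent.H546.Sp Cfsg.Agent.H414 Cfsg.Agent.H414.Comp
  Cfsg.Agent.H414.LieShape Cfsg.Agent.H414.RelB Cfsg.Agent.H414.Arith Cfsg.Agent.H414.Rad

variable {ε n : ℕ} {G : Type*} [Group G]

theorem W_two {p q : ℕ} (hp : p.Prime) (hq : q.Prime) (h : p ≠ q) : W (p * q) = p + q := by
  rw [W_mul_of_coprime ((Nat.coprime_primes hp hq).2 h), W_prime hp, W_prime hq]

theorem Spec.not_order (h : Spec ε n G) {k : ℕ} (hk : n < W k + (if Even k then ε else 0)) :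
    ¬ ∃ x : G, orderOf x = k := by
  rintro ⟨x, hx⟩
  have h1 := h.up x
  rw [hx] at h1
  omega

theorem Spec.not_of_odd (h : Spec ε n G) {k : ℕ} (hk : n < W k) : ¬ ∃ x : G, orderOf x = k :=
  Spec.not_order h (by omega)

theorem Spec.exists_odd (h : Spec ε n G) {k : ℕ} (h0 : Odd k) (hk : W k ≤ n) : ∃ x : G, orderOf x = k := by
  refine h.down k h0.pos ?_
  rw [if_neg (Nat.not_even_iff_odd.2 h0)]
  exact hk

theorem Spec.dvd [Finite G] (h : Spec ε n G) {p : ℕ} (hp : p.Prime) (hp2 : p ≠ 2) (hpn : p ≤ n) : p ∣ Nat.card G := by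
  obtain ⟨x, hx⟩ := Spec.exists_odd h (hp.odd_of_ne_two hp2) (by rw [W_prime hp]; exact hpn)
  rw [← hx]
  exact orderOf_dvd_natCard x

theorem Spec.le_of_dvd [Finite G] (h : Spec ε n G) {p : ℕ} (hp : p.Prime) (hd : p ∣ Nat.card G) : p ≤ n := by
  have := Fact.mk hp
  obtain ⟨x, hx⟩ := exists_prime_orderOf_dvd_card' p hd
  have h1 := h.up x
  rw [hx, W_prime hp] at h1
  omega

theorem Spec.not_adj (h : Spec ε n G) {p q : ℕ} (hp : p.Prime) (hq : q.Prime) (hpq : p ≠ q) (hn : n < p + q) :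
    ¬ ∃ x : G, orderOf x = p * q :=
  Spec.not_of_odd h (by rw [W_two hp hq hpq]; exact hn)

theorem Spec.not_adj_two (h : Spec ε n G) {p : ℕ} (hp : p.Prime) (hp2 : p ≠ 2) (hn : n < p + 2 + ε) :
    ¬ ∃ x : G, orderOf x = 2 * p := by
  refine Spec.not_order h ?_
  rw [W_two Nat.prime_two hp hp2.symm, if_pos (even_two_mul p)]
  omega

/-- a coclique of odd primes in `(n / 2, n]` -/
theorem coc [Finite G] (h : Spec ε n G) {C : Finset ℕ} (hC : ∀ r ∈ C, r.Prime ∧ r ≠ 2 ∧ r ≤ n ∧ n < 2 * r) :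
    Vasiliev.Coc G C := by
  refine ⟨fun r hr => ⟨(hC r hr).1, Spec.dvd h (hC r hr).1 (hC r hr).2.1 (hC r hr).2.2.1⟩, fun r hr s hs hrs => ?_⟩
  have h1 := (hC r hr).2.2.2
  have h2 := (hC s hs).2.2.2
  exact Spec.not_adj h (hC r hr).1 (hC s hs).1 hrs (by omega)

/-- the frame -/
structure Frame (G : Type*) [Group G] (C : Finset ℕ) (p : ℕ) (K : Subgroup G) [K.Normal] (S : Subgroup (G ⧸ K)) :
    Prop where
  sol : Group.IsSolvable ↥K
  comp : IsComp S
  nor : S.Normal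
  cent : centralizer (S : Set (G ⧸ K)) = ⊥
  coc : ∀ a ∈ C, ∀ b ∈ C, a ∣ Nat.card ↥K * S.index → b ∣ Nat.card ↥K * S.index → a = b
  two : AltL2 ↥S ∨ (¬ p ∣ Nat.card ↥K ∧ ¬ p ∣ S.index)

theorem frame [Finite G] (h : Spec ε n G) {C : Finset ℕ} (hC : ∀ r ∈ C, r.Prime ∧ r ≠ 2 ∧ r ≤ n ∧ n < 2 * r)
    (h3 : 3 ≤ C.card) {p : ℕ} (hp : p.Prime) (hp2 : p ≠ 2) (hpn : p ≤ n) (hn : n < p + 2 + ε) :
    ∃ (K : Subgroup G) (_ : K.Normal) (S : Subgroup (G ⧸ K)), Frame G C p K S := by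
  have hcoc := coc h hC
  have hsol : ¬ Group.IsSolvable G := by
    intro hs
    obtain ⟨a, ha, b, hb, c, hc, hab, hac, hbc⟩ : ∃ a ∈ C, ∃ b ∈ C, ∃ c ∈ C, a ≠ b ∧ a ≠ c ∧ b ≠ c := by
      obtain ⟨a, b, c, ha, hb, hc, hab, hac, hbc⟩ := (Finset.two_lt_card_iff.1 (show 2 < C.card by omega))
      exact ⟨a, ha, b, hb, c, hc, hab, hac, hbc⟩
    have h1 : Vasiliev.Coc G {a, b, c} := by
      refine ⟨fun r hr => hcoc.1 r ?_, fun r hr s hs => hcoc.2 r ?_ s ?_⟩
      · simp only [Finset.mem_insert, Finset.mem_singleton] at hr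
        rcases hr with rfl | rfl | rfl <;> assumption
      · simp only [Finset.mem_insert, Finset.mem_singleton] at hr
        rcases hr with rfl | rfl | rfl <;> assumption
      · simp only [Finset.mem_insert, Finset.mem_singleton] at hs
        rcases hs with rfl | rfl | rfl <;> assumption
    have hts : Group.IsSolvable ↥(⊤ : Subgroup G) :=
      Group.isSolvable_of_isSolvable_injective (Subgroup.subtype_injective _)
    have hq : Group.IsSolvable (G ⧸ (⊤ : Subgroup G)) :=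
      Group.isSolvable_of_surjective (f := QuotientGroup.mk' (⊤ : Subgroup G)) (QuotientGroup.mk'_surjective _)
    refine Vasiliev.three (⊤ : Subgroup G) ⊤ le_rfl hts hq hab hac hbc h1 (Or.inl ?_) (Or.inl ?_)
    · rw [Subgroup.card_top]; exact (hcoc.1 a ha).2
    · rw [Subgroup.card_top]; exact (hcoc.1 b hb).2
  obtain ⟨K, hKn, hKs, hKm⟩ := H414.Spec.exists_radical G
  obtain ⟨S, hS, hSn, hSc, hco, hl⟩ := Vasiliev.main hsol
    ⟨p, hp, hp2, Spec.dvd h hp hp2 hpn, Spec.not_adj_two h hp hp2 hn⟩ K hKs hKm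
  refine ⟨K, hKn, S, hKs, hS, hSn, hSc, hco C hcoc h3, ?_⟩
  rcases hl with h1 | h1
  · exact Or.inl h1
  · exact Or.inr (h1 p hp hp2 (Spec.dvd h hp hp2 hpn) (Spec.not_adj_two h hp hp2 hn))

section

variable [Finite G] {C : Finset ℕ} {p : ℕ} {K : Subgroup G} [K.Normal] {S : Subgroup (G ⧸ K)}

omit [Finite G] in
theorem card_eq : Nat.card G = Nat.card ↥S * (Nat.card ↥K * S.index) := by
  rw [Subgroup.card_eq_card_quotient_mul_card_subgroup K, ← Subgroup.card_mul_index S]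
  ring

/-- all members of `C` but one divide `|S|` -/
theorem Frame.miss (D : Frame G C p K S) (h : Spec ε n G)
    (hC : ∀ r ∈ C, r.Prime ∧ r ≠ 2 ∧ r ≤ n ∧ n < 2 * r) {a b : ℕ} (ha : a ∈ C) (hb : b ∈ C) (hab : a ≠ b) :
    a ∣ Nat.card ↥S ∨ b ∣ Nat.card ↥S := by
  by_contra hcon
  push Not at hcon
  have key : ∀ r ∈ C, ¬ r ∣ Nat.card ↥S → r ∣ Nat.card ↥K * S.index := by
    intro r hr h1
    have h2 := Spec.dvd h (hC r hr).1 (hC r hr).2.1 (hC r hr).2.2.1
    rw [card_eq (K := K) (S := S)] at h2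
    exact ((hC r hr).1.dvd_mul.1 h2).resolve_left h1
  exact hab (D.coc a ha b hb (key a ha hcon.1) (key b hb hcon.2))

theorem Frame.le_of_dvd (_ : Frame G C p K S) (h : Spec ε n G) {r : ℕ} (hr : r.Prime) (hd : r ∣ Nat.card ↥S) : r ≤ n :=
  Spec.le_of_dvd h hr (by rw [card_eq (K := K) (S := S)]; exact hd.mul_right _)

/-- element orders of `S` are element orders of `G` -/
theorem Frame.order (_ : Frame G C p K S) {k : ℕ} (hk : k ≠ 0) (h : ∃ x : S, orderOf x = k) : ∃ x : G, orderOf x = k :=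
  Adj.exists_order_quot K hk (Adj.exists_order_subgroup h)

theorem Frame.p_dvd (D : Frame G C p K S) (h : Spec ε n G) (hp : p.Prime) (hp2 : p ≠ 2) (hpn : p ≤ n)
    (hl : ¬ AltL2 ↥S) : p ∣ Nat.card ↥S ∧ ¬ p ∣ Nat.card ↥K ∧ ¬ p ∣ S.index := by
  have h1 := D.two.resolve_left hl
  have h2 := Spec.dvd h hp hp2 hpn
  rw [card_eq (K := K) (S := S)] at h2
  rcases hp.dvd_mul.1 h2 with h3 | h3
  · exact ⟨h3, h1⟩
  · rcases hp.dvd_mul.1 h3 with h4 | h4
    · exact absurd h4 h1.1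
    · exact absurd h4 h1.2

/-- `S` alternating -/
theorem Frame.top (D : Frame G C p K S) {m : ℕ} (hm : 7 ≤ m) (e : ↥S ≃* alternatingGroup (Fin m)) : Top m K := by
  have := D.nor
  obtain ⟨ψ, hψ, -⟩ := Cfsg.Agent.Omega.TwoF.AltRk.exists_psi hm
  let π : G ⧸ K →* Equiv.Perm (Fin m) := ψ.comp ((MulAut.congr e).toMonoidHom.comp (MulAut.conjNormal (H := S)))
  have hπ : Function.Injective π := by
    refine hψ.comp ((MulAut.congr e).injective.comp ?_)
    rw [injective_iff_map_eq_one]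
    intro g hg
    have h1 : g ∈ centralizer (S : Set (G ⧸ K)) := by
      refine mem_centralizer_iff.2 fun s hs => ?_
      have h2 : ((MulAut.conjNormal g : MulAut S) ⟨s, hs⟩ : G ⧸ K) = s := by
        rw [hg]; rfl
      rw [MulAut.conjNormal_apply] at h2
      have h3 : g * s * g⁻¹ = s := h2
      exact (mul_inv_eq_iff_eq_mul.1 h3).symm
    rw [D.cent] at h1
    exact mem_bot.1 h1
  have hfin : Finite (G ⧸ K) := inferInstance
  have hnt : Nontrivial (Fin m) := Fin.nontrivial_iff_two_le.2 (by omega)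
  -- the order of `G / K`
  have h1 : Nat.card (G ⧸ K) = Nat.card (alternatingGroup (Fin m)) * S.index := by
    rw [← Nat.card_congr e.toEquiv, Subgroup.card_mul_index]
  have h2 : Nat.card (Equiv.Perm (Fin m)) = Nat.card (alternatingGroup (Fin m)) * 2 := by
    have h3 := (alternatingGroup (Fin m)).card_mul_index
    rw [alternatingGroup.index_eq_two] at h3
    exact h3.symm
  have h4 : Nat.card (G ⧸ K) ∣ Nat.card (Equiv.Perm (Fin m)) := Subgroup.card_dvd_of_injective π hπ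
  rw [h1, h2] at h4
  have h5 : S.index ∣ 2 := Nat.dvd_of_mul_dvd_mul_left Nat.card_pos h4
  rcases (Nat.dvd_prime Nat.prime_two).1 h5 with h6 | h6
  · -- `S = G / K`
    left
    have h7 : S = ⊤ := Subgroup.index_eq_one.1 h6
    subst h7
    exact ⟨Subgroup.topEquiv.symm.trans e⟩
  · right
    refine ⟨MulEquiv.ofBijective π ⟨hπ, ?_⟩⟩
    have h7 : Nat.card (G ⧸ K) = Nat.card (Equiv.Perm (Fin m)) := by rw [h1, h2, h6]
    exact ((Nat.bijective_iff_injective_and_card π).2 ⟨hπ, h7⟩).2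

end

end Cfsg.Agent.H396.SpA
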