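import Cfsg.Agent.H396.SpA.Lie

/-! certificates for `n = 23 .. 26` and `n = 29, 30` (helper396) -/

set_option autoImplicit false

namespace Cfsg.Agent.H396.SpA

open Cfsg.Agent.H414.RelB Cfsg.Agent.H414.Arith

def ch26 : List (ℕ × ℕ × List (ℕ × ℕ)) :=
  [(10597, 5, [(2, 2), (3, 1), (883, 1)]),
    (169553, 3, [(2, 4), (10597, 1)]),
    (48847, 3, [(2, 1), (3, 1), (7, 1), (1163, 1)]),
    (10746341, 3, [(2, 2), (5, 1), (11, 1), (48847, 1)]),
    (17911, 3, [(2, 1), (3, 2), (5, 1), (199, 1)]),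
    (6304673, 3, [(2, 5), (11, 1), (17911, 1)]),
    (1270657, 5, [(2, 7), (3, 2), (1103, 1)]),
    (122347, 11, [(2, 1), (3, 2), (7, 1), (971, 1)]),
    (253239693257, 3, [(2, 3), (11, 1), (43, 1), (547, 1), (122347, 1)]),
    (7792003, 2, [(2, 1), (3, 2), (227, 1), (1907, 1)])]

def rows26 : List (ℕ × List RC) :=
  [(2, [{ u := 23, v := 89, o := 11, e := 11, ls := [(11, 1, 1)], b2 := 0, c3 := 0 }]),
    (3, [{ u := 19, v := 37, o := 18, e := 18, ls := [(2, 1, 1), (3, 2, 2)], b2 := 1, c3 := 2 },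
      { u := 17, v := 193, o := 16, e := 16, ls := [(2, 4, 4)], b2 := 4, c3 := 0 }]),
    (5, [{ u := 23, v := 67, o := 22, e := 22, ls := [(2, 1, 1), (11, 1, 1)], b2 := 1, c3 := 0 },
      { u := 19, v := 829, o := 9, e := 9, ls := [(3, 2, 2)], b2 := 0, c3 := 2 }]),
    (7, [{ u := 17, v := 169553, o := 16, e := 16, ls := [(2, 4, 4)], b2 := 4, c3 := 0 },
      { u := 23, v := 10746341, o := 22, e := 22, ls := [(2, 1, 1), (11, 1, 1)], b2 := 1, c3 := 0 }]),
    (11, [{ u := 23, v := 89, o := 22, e := 22, ls := [(2, 1, 1), (11, 1, 1)], b2 := 1, c3 := 0 },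
      { u := 17, v := 6304673, o := 16, e := 16, ls := [(2, 4, 4)], b2 := 4, c3 := 0 }]),
    (13, [{ u := 19, v := 271, o := 18, e := 18, ls := [(2, 1, 1), (3, 2, 2)], b2 := 1, c3 := 2 },
      { u := 23, v := 419, o := 11, e := 11, ls := [(11, 1, 1)], b2 := 0, c3 := 0 }]),
    (17, [{ u := 23, v := 947, o := 22, e := 22, ls := [(2, 1, 1), (11, 1, 1)], b2 := 1, c3 := 0 },
      { u := 19, v := 1270657, o := 9, e := 9, ls := [(3, 2, 2)], b2 := 0, c3 := 2 }]),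
    (19, [{ u := 17, v := 3833, o := 8, e := 8, ls := [(2, 3, 3)], b2 := 3, c3 := 0 },
      { u := 23, v := 253239693257, o := 22, e := 22, ls := [(2, 1, 1), (11, 1, 1)], b2 := 1, c3 := 0 }]),
    (23, [{ u := 17, v := 3697, o := 16, e := 16, ls := [(2, 4, 4)], b2 := 4, c3 := 0 },
      { u := 19, v := 7792003, o := 9, e := 9, ls := [(3, 2, 2)], b2 := 0, c3 := 2 }])]

def ch30 : List (ℕ × ℕ × List (ℕ × ℕ)) :=
  [(4733, 5, [(2, 2), (7, 1), (13, 2)]),
    (10597, 5, [(2, 2), (3, 1), (883, 1)]),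
    (169553, 3, [(2, 4), (10597, 1)]),
    (1270657, 5, [(2, 7), (3, 2), (1103, 1)]),
    (8663, 5, [(2, 1), (61, 1), (71, 1)]),
    (17327, 5, [(2, 1), (8663, 1)]),
    (5336717, 3, [(2, 2), (7, 1), (11, 1), (17327, 1)]),
    (26209, 11, [(2, 5), (3, 2), (7, 1), (13, 1)]),
    (10435069, 2, [(2, 2), (3, 4), (7, 1), (43, 1), (107, 1)])]

def rows30 : List (ℕ × List RC) :=
  [(2, [{ u := 23, v := 89, o := 11, e := 11, ls := [(11, 1, 1)], b2 := 0, c3 := 0 },
      { u := 29, v := 113, o := 28, e := 28, ls := [(2, 2, 2), (7, 1, 1)], b2 := 2, c3 := 0 }]),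
    (3, [{ u := 19, v := 37, o := 18, e := 18, ls := [(2, 1, 1), (3, 2, 2)], b2 := 1, c3 := 2 },
      { u := 17, v := 193, o := 16, e := 16, ls := [(2, 4, 4)], b2 := 4, c3 := 0 }]),
    (5, [{ u := 23, v := 67, o := 22, e := 22, ls := [(2, 1, 1), (11, 1, 1)], b2 := 1, c3 := 0 },
      { u := 29, v := 449, o := 14, e := 14, ls := [(2, 1, 1), (7, 1, 1)], b2 := 1, c3 := 0 }]),
    (7, [{ u := 29, v := 4733, o := 7, e := 7, ls := [(7, 1, 1)], b2 := 0, c3 := 0 },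
      { u := 17, v := 169553, o := 16, e := 16, ls := [(2, 4, 4)], b2 := 4, c3 := 0 }]),
    (11, [{ u := 29, v := 61, o := 28, e := 4, ls := [(2, 2, 2)], b2 := 2, c3 := 0 },
      { u := 23, v := 89, o := 22, e := 22, ls := [(2, 1, 1), (11, 1, 1)], b2 := 1, c3 := 0 }]),
    (13, [{ u := 19, v := 271, o := 18, e := 18, ls := [(2, 1, 1), (3, 2, 2)], b2 := 1, c3 := 2 },
      { u := 23, v := 419, o := 11, e := 11, ls := [(11, 1, 1)], b2 := 0, c3 := 0 }]),
    (17, [{ u := 23, v := 947, o := 22, e := 22, ls := [(2, 1, 1), (11, 1, 1)], b2 := 1, c3 := 0 },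
      { u := 19, v := 1270657, o := 9, e := 9, ls := [(3, 2, 2)], b2 := 0, c3 := 2 }]),
    (19, [{ u := 29, v := 181, o := 28, e := 4, ls := [(2, 2, 2)], b2 := 2, c3 := 0 },
      { u := 17, v := 3833, o := 8, e := 8, ls := [(2, 3, 3)], b2 := 3, c3 := 0 }]),
    (23, [{ u := 17, v := 3697, o := 16, e := 16, ls := [(2, 4, 4)], b2 := 4, c3 := 0 },
      { u := 29, v := 5336717, o := 7, e := 7, ls := [(7, 1, 1)], b2 := 0, c3 := 0 }]),
    (29, [{ u := 17, v := 26209, o := 16, e := 16, ls := [(2, 4, 4)], b2 := 4, c3 := 0 },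
      { u := 19, v := 10435069, o := 18, e := 18, ls := [(2, 1, 1), (3, 2, 2)], b2 := 1, c3 := 2 }])]

theorem chain26 : chainB [] ch26 = true := by decide +kernel

theorem chk26 (n : ℕ) (h1 : 23 ≤ n) (h2 : n ≤ 26) : rowsB [17, 19, 23] n 23 ch26 rows26 = true := by
  interval_cases n <;> decide +kernel

theorem chain30 : chainB [] ch30 = true := by decide +kernel

theorem chk30 (n : ℕ) (h1 : 29 ≤ n) (h2 : n ≤ 30) : rowsB [17, 19, 23, 29] n 29 ch30 rows30 = true := by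
  interval_cases n <;> decide +kernel

end Cfsg.Agent.H396.SpA
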