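import Cfsg.Agent.H396.SpA.Alt
import Cfsg.Agent.H316.K23
import Cfsg.Agent.H839.SeventeenMain
import Cfsg.Agent.H163.PG.Fi24
import Cfsg.Agent.H403.GroupLift
import Cfsg.Agent.S0033
import Cfsg.Agent.S2081

/-!
# `Fi23` and `Fi24'` (helper396, TEAM SPEC-ALT)
-/

set_option autoImplicit false

namespace Cfsg.Agent.H396.SpA

open Cfsg Subgroup Cfsg.Agent.H357.Sp Cfsg.Agent.H546.Sp Cfsg.Spor

/-- a `t`-subgroup normalized by an element of order `r` -/
def HasFrob (t r : ℕ) (X : Type*) [Group X] : Prop :=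
  ∃ (A : Subgroup X) (x : X), IsPGroup t ↥A ∧ A ≠ ⊥ ∧ orderOf x = r ∧ x ∈ normalizer (A : Set X)

theorem HasFrob.map {t r : ℕ} {X Y : Type*} [Group X] [Group Y] (h : HasFrob t r X) (f : X →* Y)
    (hf : Function.Injective f) : HasFrob t r Y := by
  obtain ⟨A, x, h1, h2, h3, h4⟩ := h
  refine ⟨A.map f, f x, h1.map f, ?_, ?_, ?_⟩
  · rw [Ne, Subgroup.map_eq_bot_iff_of_injective _ hf]
    exact h2
  · rw [orderOf_injective f hf, h3]
  · exact Subgroup.le_normalizer_map f (mem_map_of_mem f h4)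

theorem fi23 : HasFrob 23 11 Fi23 := by
  have := R08.FiTwentyThree.finite_fi23
  have h := H839.Fi23.twentythree_main _ H839.Fi23.card_y23
  have : Fact (Nat.Prime 11) := ⟨by norm_num⟩
  have : Fact (Nat.Prime 23) := ⟨by norm_num⟩
  set X := zpowers (LThreeFi23.elw LThreeFi23.y23) with hX
  obtain ⟨x, hx⟩ := exists_prime_orderOf_dvd_card' (G := ↥(normalizer (X : Set Fi23))) 11
    (by rw [h.1]; exact ⟨23, rfl⟩)
  refine ⟨X, x, IsPGroup.of_card (n := 1) (by rw [H839.Fi23.card_y23, pow_one]), ?_, by rw [Subgroup.orderOf_coe, hx], x.2⟩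
  intro h0
  have h1 := H839.Fi23.card_y23
  rw [← hX, h0, Subgroup.card_bot] at h1
  norm_num at h1

theorem fi24 : HasFrob 23 11 Fi24' := by
  have h1 : ∀ x : Fi23, R08.FiTwentyFour.facts.phi x ∈ commutator Fi24 := by
    intro x
    rw [R08.FiTwentyFour.mem_commutator_iff]
    exact ((R08.FiTwentyFour.facts.mem_range_iff _).1 ⟨x, rfl⟩).2
  refine fi23.map ((R08.FiTwentyFour.facts.phi).codRestrict _ h1) ?_
  intro a b hab
  exact R08.FiTwentyFour.facts.phi_injective (congrArg Subtype.val hab)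

section

variable {ε n : ℕ} {G : Type} [Group G] [Finite G] {C : Finset ℕ} {p : ℕ} {K : Subgroup G} [K.Normal]
  {S : Subgroup (G ⧸ K)}

omit [Finite G] in
/-- `|G / K|` divides `|Aut S|` -/
theorem Frame.card_dvd (D : Frame G C p K S) : Nat.card (G ⧸ K) ∣ Nat.card (MulAut ↥S) := by
  have := D.nor
  refine Subgroup.card_dvd_of_injective (MulAut.conjNormal (H := S)) ?_
  rw [injective_iff_map_eq_one]
  intro g hg
  have h1 : g ∈ centralizer (S : Set (G ⧸ K)) := by
    refine mem_centralizer_iff.2 fun s hs => ?_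
    have h2 : ((MulAut.conjNormal g : MulAut S) ⟨s, hs⟩ : G ⧸ K) = s := by
      rw [hg]; rfl
    rw [MulAut.conjNormal_apply] at h2
    have h3 : g * s * g⁻¹ = s := h2
    exact (mul_inv_eq_iff_eq_mul.1 h3).symm
  rw [D.cent] at h1
  exact mem_bot.1 h1

theorem Frame.index_dvd (D : Frame G C p K S) {k : ℕ} (h : Nat.card (MulAut ↥S) ∣ Nat.card ↥S * k) : S.index ∣ k := by
  have h1 := D.card_dvd.trans h
  rw [← Subgroup.card_mul_index S] at h1
  exact Nat.dvd_of_mul_dvd_mul_left Nat.card_pos h1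

/-- `19` divides `|K|`, and there are no elements of order `209` and `253`: contradiction -/
theorem Frame.frob (D : Frame G C p K S) (hS : HasFrob 23 11 ↥S) (h19 : 19 ∣ Nat.card ↥K)
    (h1 : ¬ ∃ x : G, orderOf x = 19 * 11) (h2 : ¬ ∃ x : G, orderOf x = 23 * 11) : False := by
  have := D.nor
  obtain ⟨A, x, hA, hA1, hx, hxn⟩ := hS
  refine H403.false_of_frob K S D.comp.simple (p := 19) (t := 23) (r := 11) (by norm_num) (by norm_num) (by norm_num)
    (by norm_num) (by norm_num) (by norm_num) h19 ?_ (A.map S.subtype) (hA.map _) ?_ (Subgroup.map_subtype_le A)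
    (x : G ⧸ K) ?_ (Subgroup.le_normalizer_map S.subtype (mem_map_of_mem S.subtype hxn)) h1 h2
  · rw [← hx]
    exact orderOf_dvd_natCard x
  · rw [Ne, Subgroup.map_eq_bot_iff_of_injective _ S.subtype_injective]
    exact hA1
  · rw [Subgroup.orderOf_coe, hx]

theorem Frame.fi23_false (D : Frame G C p K S) (h : Spec ε n G) (hn : 23 ≤ n) (hn' : n ≤ 29) (hS : Spor.IsoFi23 ↥S) :
    False := by
  have h1 : S.index ∣ 1 := D.index_dvd (H316.Kill23.card_aut_fi23 hS)
  have h2 : 19 ∣ Nat.card ↥K := by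
    have h3 := Spec.dvd h (show Nat.Prime 19 by norm_num) (by norm_num) (by omega)
    rw [card_eq (K := K) (S := S), Nat.dvd_one.1 h1, mul_one, (show Nat.Prime 19 by norm_num).dvd_mul] at h3
    refine h3.resolve_left fun h4 => ?_
    rw [NotCT.Orders.fi23 hS] at h4
    revert h4
    norm_num
  obtain ⟨e⟩ := hS
  refine D.frob (fi23.map e.symm.toMonoidHom e.symm.injective) h2
    (Spec.not_adj h (by norm_num) (by norm_num) (by norm_num) (by omega))
    (Spec.not_adj h (by norm_num) (by norm_num) (by norm_num) (by omega))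

theorem Frame.nineteen (D : Frame G C p K S) (h : Spec ε n G) (hn : 19 ≤ n) (hS : Spor.IsoFi24' ↥S) :
    S.index ∣ 2 ∧ 19 ∣ Nat.card ↥K := by
  have h0 : Nat.card (MulAut ↥S) ∣ Nat.card ↥S * 2 := by
    obtain ⟨e⟩ := id hS
    have : Finite Spor.Fi24' := Finite.of_equiv ↥S e.toEquiv
    rw [H316.Kill.card_mulAut_congr e, Nat.card_congr e.toEquiv]
    exact H316.Kill23.card_aut_dvd S2081.result
  have h1 : S.index ∣ 2 := D.index_dvd h0
  refine ⟨h1, ?_⟩
  have h3 := Spec.dvd h (show Nat.Prime 19 by norm_num) (by norm_num) (by omega)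
  rw [card_eq (K := K) (S := S), (show Nat.Prime 19 by norm_num).dvd_mul,
    (show Nat.Prime 19 by norm_num).dvd_mul] at h3
  rcases h3 with h4 | h4 | h4
  · rw [NotCT.Orders.fi24 hS] at h4
    revert h4
    norm_num
  · exact h4
  · have h5 := h4.trans h1
    revert h5
    norm_num

theorem Frame.fi24_false (D : Frame G C p K S) (h : Spec ε n G) (hn : 23 ≤ n) (hn' : n ≤ 29) (hS : Spor.IsoFi24' ↥S) :
    False := by
  have h2 := (D.nineteen h (by omega) hS).2
  obtain ⟨e⟩ := hS
  refine D.frob (fi24.map e.symm.toMonoidHom e.symm.injective) h2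
    (Spec.not_adj h (by norm_num) (by norm_num) (by norm_num) (by omega))
    (Spec.not_adj h (by norm_num) (by norm_num) (by norm_num) (by omega))

end

end Cfsg.Agent.H396.SpA
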