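import Cfsg.Agent.H414.RelB

/-!
# Certificates against the groups of Lie type (helper396, TEAM SPEC-ALT)
-/

set_option autoImplicit false

namespace Cfsg.Agent.H396.SpA

open Cfsg.Agent.H414 Cfsg.Agent.H414.LieShape Cfsg.Agent.H414.RelB Cfsg.Agent.H414.Arith

/-- no duplicates, for the kernel -/
def nodupB : List ℕ → Bool
  | [] => true
  | x :: l => (l.all fun y => !(Nat.beq x y)) && nodupB l

theorem nodup_of_nodupB : ∀ {l : List ℕ}, nodupB l = true → l.Nodup
  | [], _ => List.nodup_nil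
  | x :: l, h => by
    unfold nodupB at h
    rw [Bool.and_eq_true, List.all_eq_true] at h
    rw [List.nodup_cons]
    refine ⟨fun hx => ?_, nodup_of_nodupB h.2⟩
    have h1 := h.1 x hx
    rw [Bool.not_eq_true', ← Bool.not_eq_true, Nat.beq_eq] at h1
    exact h1 rfl

/-- `r` is composite -/
def compB (r : ℕ) : Bool := (List.range r).any fun d => Nat.blt 1 d && Nat.beq (r % d) 0

theorem not_prime_of_compB {r : ℕ} (h : compB r = true) : ¬ r.Prime := by
  unfold compB at h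
  rw [List.any_eq_true] at h
  obtain ⟨d, hd, h1⟩ := h
  rw [List.mem_range] at hd
  rw [Bool.and_eq_true, Nat.blt_eq, Nat.beq_eq] at h1
  intro hr
  rcases (Nat.dvd_prime hr).1 (Nat.dvd_of_mod_eq_zero h1.2) with h2 | h2 <;> omega

/-- one certificate: `u ∈ T`, `u ≠ r`, `u ∣ c → v ∣ c`, `n < v` -/
def certB (T : List ℕ) (n r : ℕ) (ch : List (ℕ × ℕ × List (ℕ × ℕ))) (c : RC) : Bool :=
  relB ch r c && nodupB (c.ls.map Prod.fst) && T.any (Nat.beq c.u) && !(Nat.beq c.u r) && Nat.blt n c.v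

/-- one row: two certificates with different `u`, or, for `r = 2`, one with `u = f` -/
def rowB (T : List ℕ) (n f r : ℕ) (ch : List (ℕ × ℕ × List (ℕ × ℕ))) (l : List RC) : Bool :=
  (l.all (certB T n r ch)) &&
    ((l.any fun c => l.any fun d => !(Nat.beq c.u d.u)) || (Nat.beq r 2 && l.any fun c => Nat.beq c.u f))

/-- all rows -/
def rowsB (T : List ℕ) (n f : ℕ) (ch : List (ℕ × ℕ × List (ℕ × ℕ))) (rows : List (ℕ × List RC)) : Bool :=
  (List.range (n + 1)).all fun r => Nat.blt r 2 || compB r ||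
    rows.any fun x => Nat.beq x.1 r && rowB T n f r ch x.2

/-- **no group of Lie type** -/
theorem lie_false {T : List ℕ} {n f : ℕ} {ch : List (ℕ × ℕ × List (ℕ × ℕ))} {rows : List (ℕ × List RC)}
    (hch : chainB [] ch = true) (hB : rowsB T n f ch rows = true) (hT : ∀ u ∈ T, u.Prime) {c r : ℕ} (hr : r.Prime)
    (hS : Shape r c) (hsm : ∀ q : ℕ, q.Prime → q ∣ c → q ≤ n) (hm : ∀ a ∈ T, ∀ b ∈ T, a ≠ b → a ∣ c ∨ b ∣ c)
    (hf : r = 2 → f ∣ c) : False := by
  have hrn : r ≤ n := hsm r hr hS.chr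
  unfold rowsB at hB
  rw [List.all_eq_true] at hB
  have h1 := hB r (List.mem_range.2 (by omega))
  rw [Bool.or_eq_true, Bool.or_eq_true, Nat.blt_eq] at h1
  rcases h1 with (h1 | h1) | h1
  · have := hr.two_le; omega
  · exact not_prime_of_compB h1 hr
  · rw [List.any_eq_true] at h1
    obtain ⟨⟨r', l⟩, -, h1⟩ := h1
    rw [Bool.and_eq_true, Nat.beq_eq] at h1
    obtain ⟨h2, h3⟩ := h1
    unfold rowB at h3
    rw [Bool.and_eq_true, List.all_eq_true, Bool.or_eq_true] at h3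
    obtain ⟨h4, h5⟩ := h3
    have key : ∀ x ∈ l, x.u ∈ T ∧ ¬ x.u ∣ c := by
      intro x hx
      have h6 := h4 x hx
      unfold certB at h6
      rw [Bool.and_eq_true, Bool.and_eq_true, Bool.and_eq_true, Bool.and_eq_true, Nat.blt_eq, Bool.not_eq_true',
        ← Bool.not_eq_true, Nat.beq_eq] at h6
      obtain ⟨⟨⟨⟨h7, h8⟩, h9⟩, h10⟩, h11⟩ := h6
      have huT : x.u ∈ T := any_beq h9
      refine ⟨huT, fun hd => ?_⟩
      obtain ⟨hv, hv5, R⟩ := rel_of_relB hch hr (hT _ huT) (nodup_of_nodupB h8) h7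
      have h12 := hsm _ hv (hS.dvd hr (hT _ huT) h10 hv hv5 R hd)
      omega
    rcases h5 with h5 | h5
    · rw [List.any_eq_true] at h5
      obtain ⟨x, hx, h6⟩ := h5
      rw [List.any_eq_true] at h6
      obtain ⟨y, hy, h7⟩ := h6
      rw [Bool.not_eq_true', ← Bool.not_eq_true, Nat.beq_eq] at h7
      rcases hm _ (key x hx).1 _ (key y hy).1 h7 with h8 | h8
      · exact (key x hx).2 h8
      · exact (key y hy).2 h8
    · rw [Bool.and_eq_true, Nat.beq_eq, List.any_eq_true] at h5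
      obtain ⟨h6, x, hx, h7⟩ := h5
      rw [Nat.beq_eq] at h7
      exact (key x hx).2 (by rw [h7]; exact hf h6)

end Cfsg.Agent.H396.SpA
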