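import Cfsg.Agent.H396.SpA.Fi

/-!
# The rows `n = 23, 24, 25, 26` and `n = 29` (helper396, TEAM SPEC-ALT)
-/

set_option autoImplicit false

namespace Cfsg.Agent.H396.SpA

open Cfsg Subgroup Cfsg.Agent.H357.Sp Cfsg.Agent.H546.Sp Cfsg.Agent.OrdDiv

section

variable {ε n m : ℕ} {G : Type} [Group G] [Finite G]

/-- from the frame to the conclusion, `S` alternating -/
theorem Frame.concl {C : Finset ℕ} {p : ℕ} {K : Subgroup G} [K.Normal] {S : Subgroup (G ⧸ K)} (D : Frame G C p K S)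
    (h : Spec ε n G) (hp : p.Prime) (hp7 : 7 ≤ p) (hd : p ∣ Nat.card ↥S) (hA : IsAlternating ↥S) {P : Finset ℕ}
    (hP : ∀ p ∈ P, p.Prime ∧ p ≠ 2) (hs : ∑ p ∈ P, p = n + 1) :
    ∃ (N : Subgroup G) (_ : N.Normal), Group.IsSolvable ↥N ∧ ∃ m, p ≤ m ∧ m ≤ n ∧ Top m N := by
  obtain ⟨m, -, ⟨e⟩⟩ := hA
  have hpm : p ≤ m := by
    rw [Nat.card_congr e.toEquiv] at hd
    have h1 : p ∣ m.factorial := by
      refine hd.trans ?_
      have h2 := Subgroup.card_subgroup_dvd_card (alternatingGroup (Fin m))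
      rwa [Nat.card_eq_fintype_card (α := Equiv.Perm (Fin m)), Fintype.card_perm, Fintype.card_fin] at h2
    exact (hp.dvd_factorial).1 h1
  exact ⟨K, inferInstance, D.sol, m, hpm, degree_le D h e hP hs, D.top (by omega) e⟩

end

/-- the coclique for `n = 23 .. 26` -/
def C26 : Finset ℕ := {17, 19, 23}

/-- the coclique for `n = 29, 30` -/
def C30 : Finset ℕ := {17, 19, 23, 29}

theorem hC26 {n : ℕ} (h1 : 23 ≤ n) (h2 : n ≤ 26) : ∀ r ∈ C26, r.Prime ∧ r ≠ 2 ∧ r ≤ n ∧ n < 2 * r := by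
  intro r hr
  simp only [C26, Finset.mem_insert, Finset.mem_singleton] at hr
  rcases hr with rfl | rfl | rfl <;> refine ⟨by norm_num, by norm_num, by omega, by omega⟩

theorem hC30 {n : ℕ} (h1 : 29 ≤ n) (h2 : n ≤ 30) : ∀ r ∈ C30, r.Prime ∧ r ≠ 2 ∧ r ≤ n ∧ n < 2 * r := by
  intro r hr
  simp only [C30, Finset.mem_insert, Finset.mem_singleton] at hr
  rcases hr with rfl | rfl | rfl | rfl <;> refine ⟨by norm_num, by norm_num, by omega, by omega⟩

theorem row_gen26 {ε n : ℕ} (h1 : 23 ≤ n) (h2 : n ≤ 26) (h3 : n < 25 + ε) {P : Finset ℕ}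
    (hP : ∀ p ∈ P, p.Prime ∧ p ≠ 2) (hs : ∑ p ∈ P, p = n + 1) : Row ε n 23 := by
  intro G _ _ h
  have hC := hC26 h1 h2
  obtain ⟨K, _, S, D⟩ := frame h (C := C26) hC (by decide) (p := 23) (by norm_num) (by norm_num) h1 (by omega)
  obtain ⟨hd, hK, hi, hk⟩ := D.kind h hC (T := [17, 19, 23]) (by decide) chain26 (chk26 n h1 h2) (by decide) (by decide)
    (by norm_num) (by norm_num) h1
  rcases hk with hk | hk
  · exact D.concl h (by norm_num) (by norm_num) hd hk hP hs
  · exfalso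
    obtain ⟨x, hx, hr, hc⟩ := exists_name hk
    have h4 := ok26 x hx (by rw [← hc]; exact okS_mono h2 (D.okS h hC (by decide) (by decide) hd))
    rw [h4] at hr
    exact D.fi23_false h h1 (by omega) hr

theorem row_gen30 {ε n : ℕ} (h1 : 29 ≤ n) (h2 : n ≤ 30) {P : Finset ℕ}
    (hP : ∀ p ∈ P, p.Prime ∧ p ≠ 2) (hs : ∑ p ∈ P, p = n + 1)
    (hF : ∀ (G : Type) [Group G] [Finite G] (K : Subgroup G) [K.Normal] (S : Subgroup (G ⧸ K)), Spec ε n G →
      Frame G C30 29 K S → ¬ 29 ∣ Nat.card ↥K → Spor.IsoFi24' ↥S → False) : Row ε n 29 := by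
  intro G _ _ h
  have hC := hC30 h1 h2
  obtain ⟨K, _, S, D⟩ := frame h (C := C30) hC (by decide) (p := 29) (by norm_num) (by norm_num) h1 (by omega)
  obtain ⟨hd, hK, hi, hk⟩ := D.kind h hC (T := [17, 19, 23, 29]) (by decide) chain30 (chk30 n h1 h2) (by decide)
    (by decide) (by norm_num) (by norm_num) h1
  rcases hk with hk | hk
  · exact D.concl h (by norm_num) (by norm_num) hd hk hP hs
  · exfalso
    obtain ⟨x, hx, hr, hc⟩ := exists_name hk
    have h4 := ok30 x hx (by rw [← hc]; exact okS_mono h2 (D.okS h hC (by decide) (by decide) hd))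
    rw [h4] at hr
    exact hF G K S h D hK hr

/-- **`n = 23`** -/
theorem row23 (ε : ℕ) : Row ε 23 23 :=
  row_gen26 le_rfl (by norm_num) (by omega) (P := {5, 19})
    (by intro p hp; simp only [Finset.mem_insert, Finset.mem_singleton] at hp; rcases hp with rfl | rfl <;> norm_num)
    (by decide)

/-- **`n = 24`** -/
theorem row24 (ε : ℕ) : Row ε 24 23 :=
  row_gen26 (by norm_num) (by norm_num) (by omega) (P := {3, 5, 17})
    (by intro p hp; simp only [Finset.mem_insert, Finset.mem_singleton] at hp; rcases hp with rfl | rfl | rfl <;> norm_num)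
    (by decide)

/-- **`n = 25`, alternating** -/
theorem row25A : Row 2 25 23 :=
  row_gen26 (by norm_num) (by norm_num) (by omega) (P := {3, 23})
    (by intro p hp; simp only [Finset.mem_insert, Finset.mem_singleton] at hp; rcases hp with rfl | rfl <;> norm_num)
    (by decide)

/-- **`n = 26`, alternating** -/
theorem row26A : Row 2 26 23 :=
  row_gen26 (by norm_num) (by norm_num) (by omega) (P := {3, 5, 19})
    (by intro p hp; simp only [Finset.mem_insert, Finset.mem_singleton] at hp; rcases hp with rfl | rfl | rfl <;> norm_num)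
    (by decide)

/-- **`n = 29`** -/
theorem row29 (ε : ℕ) : Row ε 29 29 :=
  row_gen30 le_rfl (by norm_num) (P := {7, 23})
    (by intro p hp; simp only [Finset.mem_insert, Finset.mem_singleton] at hp; rcases hp with rfl | rfl <;> norm_num)
    (by decide) fun _ _ _ _ _ _ h D _ hS => D.fi24_false h (by norm_num) le_rfl hS

end Cfsg.Agent.H396.SpA
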